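import Cfsg.Agent.H533.T5.Weak
import Cfsg.Agent.H533.Wf.Inner
import Cfsg.Agent.CpAut.Alt
import Cfsg.Agent.H824.ProdLem
import Cfsg.Agent.H594.HerDimTwo
import Cfsg.Agent.S2276

/-!
# S3826: the weak pair row of the alternating groups for `p = 3`

`wrow_alt3`, `arow_alt3`.
-/

set_option autoImplicit false

namespace Cfsg.Agent.H161.Wf.Alt

open Cfsg.Agent.H533.T5

/-- Automorphisms of order `p ≥ 3` of alternating groups are inner. -/
theorem inner_alt {n p : ℕ} (hn : 5 ≤ n) (hp : p.Prime) (hp2 : p ≠ 2)
    (a : MulAut (alternatingGroup (Fin n))) (ha : orderOf a = p) :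
    a ∈ (MulAut.conj : alternatingGroup (Fin n) →* MulAut (alternatingGroup (Fin n))).range := by
  rcases Nat.lt_or_ge n 7 with h | h
  · have hna := Cfsg.Agent.CpAut.not_comm_alt hn
    have : IsSimpleGroup (alternatingGroup (Fin n)) :=
      alternatingGroup.isSimpleGroup (by simpa using hn)
    have hinj := conj_injective_of_simple (S := alternatingGroup (Fin n)) hna
    have hcr : Nat.card (MulAut.conj : alternatingGroup (Fin n) →*
        MulAut (alternatingGroup (Fin n))).range = Nat.card (alternatingGroup (Fin n)) :=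
      (Nat.card_congr (MonoidHom.ofInjective hinj).toEquiv).symm
    have hmul := Subgroup.card_mul_index (MulAut.conj : alternatingGroup (Fin n) →*
        MulAut (alternatingGroup (Fin n))).range
    apply mem_conj_range_of_orderOf hp ?_ a ha
    have hidx : (MulAut.conj : alternatingGroup (Fin n) →*
        MulAut (alternatingGroup (Fin n))).range.index ∣ 2 ^ 2 := by
      rw [hcr] at hmul
      interval_cases n
      · rw [Cfsg.Agent.H594.HerDimTwo.card_mulAut_alt] at hmul
        have h5 : Nat.card (alternatingGroup (Fin 5)) = 60 := by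
          rw [nat_card_alternatingGroup, Nat.card_eq_fintype_card, Fintype.card_fin]; rfl
        rw [h5] at hmul
        have : (MulAut.conj : alternatingGroup (Fin 5) →*
          MulAut (alternatingGroup (Fin 5))).range.index = 2 := by omega
        rw [this]; norm_num
      · rw [Cfsg.Agent.H824.ProdLem.card_aut_a6] at hmul
        have h5 : Nat.card (alternatingGroup (Fin 6)) = 360 := by
          rw [nat_card_alternatingGroup, Nat.card_eq_fintype_card, Fintype.card_fin]; rfl
        rw [h5] at hmul
        have : (MulAut.conj : alternatingGroup (Fin 6) →*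
          MulAut (alternatingGroup (Fin 6))).range.index = 4 := by omega
        rw [this]; norm_num
    intro hd
    exact hp2 ((Nat.prime_dvd_prime_iff_eq hp Nat.prime_two).mp
      (hp.dvd_of_dvd_pow (hd.trans hidx)))
  · obtain ⟨g, hg⟩ := Cfsg.Agent.CpAut.autInner_alt h hp hp2 a ha
    exact ⟨g, hg.symm⟩

/-- The weak row of the alternating groups, `p ≥ 3`. -/
theorem wrow_alt {n p : ℕ} (hn : 5 ≤ n) (hp : p.Prime) (hp3 : 3 ≤ p) :
    WRow p (alternatingGroup (Fin n)) := by
  have : IsSimpleGroup (alternatingGroup (Fin n)) :=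
    alternatingGroup.isSimpleGroup (by simpa using hn)
  refine WRow.of_inner (Cfsg.Agent.CpAut.not_comm_alt hn)
    (fun a ha => inner_alt hn hp (by omega) a ha) (fun x y hx hy => ?_)
  have hne : ∀ z : alternatingGroup (Fin n), orderOf z = p → z ≠ 1 := by
    intro z hz h
    rw [h, orderOf_one] at hz
    exact hp.one_lt.ne hz
  obtain ⟨g, hg, -⟩ := Cfsg.Agent.S2276.result n hn p hp hp3 x y (hne x hx) (hne y hy)
    ⟨1, by rw [pow_one, hx]⟩ ⟨1, by rw [pow_one, hy]⟩
  refine ⟨g, Subgroup.mem_top g, fun hP => hg ?_⟩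
  exact exists_orderOf_of_isPGroup hp hP
    (mul_mem (Subgroup.subset_closure (by simp)) (Subgroup.subset_closure (by simp)))

/-- **The weak row of the alternating groups, `p = 3`.** -/
theorem wrow_alt3 {n : ℕ} (hn : 5 ≤ n) : WRow 3 (alternatingGroup (Fin n)) :=
  wrow_alt hn Nat.prime_three le_rfl

/-- The row of S3826. -/
theorem arow_alt3 {n : ℕ} (hn : 5 ≤ n) : Cfsg.Agent.H533.Wf.ARow 3 (alternatingGroup (Fin n)) :=
  Cfsg.Agent.H533.Wf.ARow.of_wrow (wrow_alt3 hn)

end Cfsg.Agent.H161.Wf.Alt
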